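import Groth.Agent.HomShX.Basic
import Groth.Agent.InvX.Tensor
import Groth.Agent.KFlatLib.Scheme.PullTensor
import Groth.Agent.Lib.CurveTensor

/-!
# The sheaf Hom: precomposition, and the sheaf Hom out of an invertible module
-/

set_option linter.style.haveILetI false
set_option linter.unusedSectionVars false
set_option backward.isDefEq.respectTransparency false
set_option backward.isDefEq.respectTransparency.types false
set_option maxHeartbeats 800000

universe u

open CategoryTheory CategoryTheory.Limits AlgebraicGeometry TopologicalSpace Opposite MonoidalCategory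
open scoped TensorProduct

noncomputable section

namespace Groth.Agent.HomShX

open Groth.Agent
open RefHull (homSh stalkMapₗ evalStalk)

variable {X : Scheme.{u}} {F F' F'' G : X.Modules}

/-- Precomposition, on sections. -/
def precFun (p : F' ⟶ F) (U : X.Opens) : Γ(homSh F G, U) →+ Γ(homSh F' G, U) where
  toFun g := ⟨fun x => (g.1 x).comp (stalkMapₗ p x.1), fun V i m x => by
    obtain ⟨W, hW, j, n, w⟩ := RefHull.isLocSect_of_mem g V i (p.app V m) x
    refine ⟨W, hW, j, n, fun y => ?_⟩
    rw [LinearMap.comp_apply, RefHull.stalkMapₗ_germ]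
    exact w y⟩
  map_zero' := RefX.sect_ext fun _ => LinearMap.zero_comp _
  map_add' _ _ := RefX.sect_ext fun _ => LinearMap.add_comp _ _ _

/-- Precomposition. -/
def prec (G : X.Modules) (p : F' ⟶ F) : homSh F G ⟶ homSh F' G :=
  ⟨PresheafOfModules.homMk
    { app := fun U => AddCommGrpCat.ofHom (precFun p U.unop)
      naturality := fun {U V} i => by
        ext s
        exact RefX.sect_ext fun x => rfl }
    (fun U r s => RefX.sect_ext fun x => LinearMap.smul_comp _ _ _)⟩

theorem prec_app_val (p : F' ⟶ F) {U : X.Opens} (g : Γ(homSh F G, U)) (x : U) :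
    ((prec G p).app U g).1 x = (g.1 x).comp (stalkMapₗ p x.1) := rfl

theorem evalStalk_prec (p : F' ⟶ F) (x : X) (θ : (homSh F G).presheaf.stalk x) :
    evalStalk F' G x (stalkMapₗ (prec G p) x θ) = (evalStalk F G x θ).comp (stalkMapₗ p x) := by
  obtain ⟨U, hx, g, rfl⟩ := TopCat.Presheaf.exists_germ_eq (homSh F G).presheaf θ
  rw [RefHull.stalkMapₗ_germ, RefHull.evalStalk_germ, RefHull.evalStalk_germ, prec_app_val]

theorem prec_comp_eq_zero {p : F' ⟶ F} {q : F ⟶ F''} (w : p ≫ q = 0) : prec G q ≫ prec G p = 0 := by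
  ext U g
  refine RefX.sect_ext fun x => ?_
  show ((prec G p).app U ((prec G q).app U g)).1 x = _
  rw [prec_app_val, prec_app_val, LinearMap.comp_assoc, ← stalkMapₗ_comp, w, stalkMapₗ_zero,
    LinearMap.comp_zero]
  rfl

/-- The sheaf Hom out of a short exact sequence of bundles is exact. -/
theorem shortExact_prec (G : X.Modules) {S : ShortComplex X.Modules} (hS : S.ShortExact)
    (h₁ : FlatMod.IsFinLocFree S.X₁) (h₂ : FlatMod.IsFinLocFree S.X₂) (h₃ : FlatMod.IsFinLocFree S.X₃) :
    (ShortComplex.mk (prec G S.g) (prec G S.f) (prec_comp_eq_zero S.zero)).ShortExact := by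
  have hp₁ := QCoh.isFP_of_isFinLocFree h₁
  have hp₂ := QCoh.isFP_of_isFinLocFree h₂
  have hp₃ := QCoh.isFP_of_isFinLocFree h₃
  have key : ∀ x, Function.Surjective (stalkMapₗ S.g x) ∧
      ∃ r : S.X₂.presheaf.stalk x →ₗ[X.presheaf.stalk x] S.X₁.presheaf.stalk x,
        r.comp (stalkMapₗ S.f x) = LinearMap.id ∧
      ∃ s : S.X₃.presheaf.stalk x →ₗ[X.presheaf.stalk x] S.X₂.presheaf.stalk x,
        (stalkMapₗ S.g x).comp s = LinearMap.id ∧
        ∀ v, (stalkMapₗ S.f x) (r v) + s (stalkMapₗ S.g x v) = v := fun x => by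
    have h := hS.map_of_exact (DerSch.stalkFunctor X x)
    haveI := QCoh.free_stalk_of_isFinLocFree h₃ x
    have hsur : Function.Surjective (stalkMapₗ S.g x) := (ModuleCat.epi_iff_surjective _).1 h.epi_g
    have hinj : Function.Injective (stalkMapₗ S.f x) := (ModuleCat.mono_iff_injective _).1 h.mono_f
    have hex : ∀ v, stalkMapₗ S.g x v = 0 → ∃ w, stalkMapₗ S.f x w = v :=
      (ShortComplex.moduleCat_exact_iff _).1 h.exact
    have hgf : ∀ w, stalkMapₗ S.g x (stalkMapₗ S.f x w) = 0 := fun w => by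
      rw [← LinearMap.comp_apply, ← stalkMapₗ_comp, S.zero, stalkMapₗ_zero]; rfl
    obtain ⟨s, hs⟩ := Module.projective_lifting_property (stalkMapₗ S.g x) LinearMap.id hsur
    have hs' : ∀ u, stalkMapₗ S.g x (s u) = u := LinearMap.congr_fun hs
    let L := LinearEquiv.ofInjective (stalkMapₗ S.f x) hinj
    let r := L.symm.toLinearMap.comp ((LinearMap.id - s.comp (stalkMapₗ S.g x)).codRestrict _ fun v =>
      LinearMap.mem_range.2 (hex _ (by
        show stalkMapₗ S.g x (v - s (stalkMapₗ S.g x v)) = 0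
        rw [map_sub, hs', sub_self])))
    have hr : ∀ v, stalkMapₗ S.f x (r v) = v - s (stalkMapₗ S.g x v) := fun v =>
      congrArg Subtype.val (L.apply_symm_apply _)
    refine ⟨hsur, r, LinearMap.ext fun w => hinj ?_, s, hs, fun v => by rw [hr]; abel⟩
    show stalkMapₗ S.f x (r (stalkMapₗ S.f x w)) = _
    rw [hr, hgf, map_zero, sub_zero]
    rfl
  refine ShortComplex.ShortExact.mk' ((KFlatLib.exact_iff_stalk _).2 fun x => ?_)
    (mono_of_stalk _ fun x a b hab => ?_) (epi_of_stalk _ fun x θ => ?_)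
  · rw [ShortComplex.moduleCat_exact_iff]
    intro (θ : (homSh S.X₂ G).presheaf.stalk x) hθ
    replace hθ : stalkMapₗ (prec G S.f) x θ = 0 := hθ
    have h0 := congrArg (evalStalk S.X₁ G x) hθ
    rw [evalStalk_prec, map_zero] at h0
    obtain ⟨-, r, -, s, -, hrs⟩ := key x
    obtain ⟨θ', hθ'⟩ := (RefX.evalStalk_bijective hp₃ x).2 ((evalStalk S.X₂ G x θ).comp s)
    refine ⟨θ', show stalkMapₗ (prec G S.g) x θ' = θ from (RefX.evalStalk_bijective hp₂ x).1 ?_⟩
    rw [evalStalk_prec, hθ']
    refine LinearMap.ext fun v => ?_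
    conv_rhs => rw [← hrs v, map_add, ← LinearMap.comp_apply (evalStalk S.X₂ G x θ) (stalkMapₗ S.f x), h0]
    rw [LinearMap.zero_apply, zero_add]
    rfl
  · have h := congrArg (evalStalk S.X₂ G x) hab
    rw [evalStalk_prec, evalStalk_prec] at h
    refine (RefX.evalStalk_bijective hp₃ x).1 (LinearMap.ext fun u => ?_)
    obtain ⟨v, rfl⟩ := (key x).1 u
    exact LinearMap.congr_fun h v
  · obtain ⟨-, r, hr, -⟩ := key x
    obtain ⟨θ', hθ'⟩ := (RefX.evalStalk_bijective hp₂ x).2 ((evalStalk S.X₁ G x θ).comp r)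
    refine ⟨θ', (RefX.evalStalk_bijective hp₁ x).1 ?_⟩
    rw [evalStalk_prec, hθ', LinearMap.comp_assoc, hr, LinearMap.comp_id]

section Pairing

variable {A M N : X.Modules}

/-- The linear map `θ ↦ φ (θ ⊗ v)`. -/
def pairHomAt (φ : CohB1.tensorMod A M ⟶ N) (x : X) :
    M.presheaf.stalk x →ₗ[X.presheaf.stalk x] RefHull.StalkHom A N x :=
  LinearMap.flip
    ((TensorProduct.mk (X.presheaf.stalk x) ((DerSch.stalkFunctor X x).obj A)
        ((DerSch.stalkFunctor X x).obj M)).compr₂
      ((((DerSch.stalkFunctor X x).map φ).hom).comp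
        (KFlatLib.stalkTensorIso x A M).hom.hom))

theorem pairHomAt_germ (φ : CohB1.tensorMod A M ⟶ N)
    {U : X.Opens} {x : X} (hx : x ∈ U) (θ : Γ(A, U)) (m : Γ(M, U)) :
    pairHomAt φ x (M.presheaf.germ U x hx m) (A.presheaf.germ U x hx θ) =
      N.presheaf.germ U x hx (φ.app U (InvX.tmul θ m)) := by
  refine Eq.trans (congrArg ((DerSch.stalkFunctor X x).map φ).hom
    (KFlatLib.stalkTensorIso_gm A M U hx θ m)) ?_
  exact DerSch.stalkFunctor_map_germ x φ U hx _

/-- The map `M ⟶ Hom(A, N)` of a map `A ⊗ M ⟶ N`. -/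
def pairHom (φ : CohB1.tensorMod A M ⟶ N) : M ⟶ homSh A N :=
  ⟨PresheafOfModules.homMk
    { app := fun U => AddCommGrpCat.ofHom (AddMonoidHom.mk'
        (fun m => (⟨fun y => pairHomAt φ y.1 (M.presheaf.germ U.unop y.1 y.2 m), fun V i θ x =>
          ⟨V, x.2, 𝟙 V, φ.app V (InvX.tmul θ (AModX.res M i.le m)), fun y => by
            rw [← pairHomAt_germ φ y.2 θ (AModX.res M i.le m), RefX.germ_res]⟩⟩ : Γ(homSh A N, U.unop)))
        (fun a b => RefX.sect_ext fun y => by
          show pairHomAt φ y.1 (M.presheaf.germ U.unop y.1 y.2 (a + b)) =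
            pairHomAt φ y.1 (M.presheaf.germ U.unop y.1 y.2 a) + pairHomAt φ y.1 (M.presheaf.germ U.unop y.1 y.2 b)
          simp only [map_add]))
      naturality := fun {U V} i => by
        ext s
        refine RefX.sect_ext fun x => ?_
        exact congrArg (pairHomAt φ x.1) (TopCat.Presheaf.germ_res_apply' M.presheaf i x.1 x.2 s) }
    (fun U r s => RefX.sect_ext fun x =>
      (congrArg (pairHomAt φ x.1) (Mero.germ_smul M U.unop x.1 x.2 r s)).trans
        (map_smul (pairHomAt φ x.1) _ _))⟩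

theorem evalStalk_pairHom (φ : CohB1.tensorMod A M ⟶ N) (x : X) (v : M.presheaf.stalk x) :
    evalStalk A N x (stalkMapₗ (pairHom φ) x v) = pairHomAt φ x v := by
  obtain ⟨U, hx, m, rfl⟩ := TopCat.Presheaf.exists_germ_eq M.presheaf v
  rw [RefHull.stalkMapₗ_germ, RefHull.evalStalk_germ]
  rfl

/-- A perfect pairing with an invertible module identifies the sheaf Hom out of it. -/
theorem isIso_pairHom (hA : FlatMod.IsFinLocFreeOfRank 1 A) (φ : CohB1.tensorMod A M ⟶ N) [IsIso φ] :
    IsIso (pairHom φ) := by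
  have hfp := QCoh.isFP_of_isFinLocFree (M := A) (fun y => let ⟨W, hy, he⟩ := hA y; ⟨W, 1, hy, he⟩)
  have key : ∀ x, Function.Bijective (pairHomAt φ x) := fun x => by
    obtain ⟨b⟩ := CurveTensor.exists_basis_stalk hA x
    let e := (b.equivFun.trans (LinearEquiv.funUnique (Fin 1) (X.presheaf.stalk x) (X.presheaf.stalk x)))
    let E := (TensorProduct.congr e (LinearEquiv.refl (X.presheaf.stalk x) (M.presheaf.stalk x))).trans
      (TensorProduct.lid (X.presheaf.stalk x) (M.presheaf.stalk x))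
    have hE : ∀ v, E ((b 0) ⊗ₜ v) = v := fun v => by
      simp [E, e]
    have hb : Function.Bijective (fun t => ((DerSch.stalkFunctor X x).map φ).hom
        ((KFlatLib.stalkTensorIso x A M).hom.hom t)) :=
      (ConcreteCategory.bijective_of_isIso ((DerSch.stalkFunctor X x).map φ)).comp
        (ConcreteCategory.bijective_of_isIso (KFlatLib.stalkTensorIso x A M).hom)
    have hv : ∀ v, pairHomAt φ x v (b 0) = ((DerSch.stalkFunctor X x).map φ).hom
        ((KFlatLib.stalkTensorIso x A M).hom.hom ((b 0) ⊗ₜ v)) := fun v => rfl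
    refine ⟨fun v w h => ?_, fun f => ?_⟩
    · have h0 := congrArg (fun g => g (b 0)) h
      replace h0 : pairHomAt φ x v (b 0) = pairHomAt φ x w (b 0) := h0
      rw [hv, hv] at h0
      rw [← hE v, ← hE w]
      exact congrArg E (hb.1 h0)
    · obtain ⟨t, ht⟩ := hb.2 (f (b 0))
      refine ⟨E t, b.ext fun i => ?_⟩
      fin_cases i
      refine (hv (E t)).trans ?_
      have e1 : (b 0) ⊗ₜ E t = t := E.injective (hE (E t))
      rw [e1]
      exact ht
  haveI : Mono (pairHom φ) := mono_of_stalk _ fun x v w h => (key x).1 (by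
    rw [← evalStalk_pairHom, ← evalStalk_pairHom, h])
  haveI : Epi (pairHom φ) := epi_of_stalk _ fun x θ => by
    obtain ⟨v, hv⟩ := (key x).2 (evalStalk A N x θ)
    exact ⟨v, (RefX.evalStalk_bijective hfp x).1 (by rw [evalStalk_pairHom, hv])⟩
  exact isIso_of_mono_of_epi _

end Pairing

end Groth.Agent.HomShX
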