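import Groth.Agent.RefX.Lift
import Groth.Agent.RefX.QCoh
import Groth.Agent.RefX.Reflexive
import Groth.Agent.QCoh.LocFree
import Groth.Agent.QCoh.HHExact
import Groth.Agent.KFlatLib.Scheme.Exact
import Groth.Agent.ZClosLib.Basic

/-!
# The concrete sheaf Hom: functoriality, exactness out of bundles, splitting, and rank one maps
-/

set_option linter.style.haveILetI false
set_option backward.isDefEq.respectTransparency false
set_option backward.isDefEq.respectTransparency.types false

universe u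

open CategoryTheory CategoryTheory.Limits AlgebraicGeometry TopologicalSpace Opposite

noncomputable section

namespace Groth.Agent.HomShX

open Groth.Agent
open RefHull (homSh stalkMapₗ evalStalk)

variable {X : Scheme.{u}} {F G G' Q : X.Modules}

/-- Morphisms of modules agree if their stalk maps do. -/
theorem ext_stalk {φ ψ : F ⟶ G} (h : ∀ x, stalkMapₗ φ x = stalkMapₗ ψ x) : φ = ψ := by
  ext U m
  refine ZClosLib.section_ext G _ _ fun x hx => ?_
  rw [← RefHull.stalkMapₗ_germ φ x hx m, ← RefHull.stalkMapₗ_germ ψ x hx m, h]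

theorem stalkMapₗ_comp {H : X.Modules} (φ : F ⟶ G) (ψ : G ⟶ H) (x : X) :
    stalkMapₗ (φ ≫ ψ) x = (stalkMapₗ ψ x).comp (stalkMapₗ φ x) := by
  refine LinearMap.ext fun v => ?_
  obtain ⟨U, hx, m, rfl⟩ := TopCat.Presheaf.exists_germ_eq F.presheaf v
  rw [LinearMap.comp_apply, RefHull.stalkMapₗ_germ, RefHull.stalkMapₗ_germ, RefHull.stalkMapₗ_germ]
  rfl

theorem stalkMapₗ_zero (x : X) : stalkMapₗ (0 : F ⟶ G) x = 0 := by
  refine LinearMap.ext fun v => ?_
  obtain ⟨U, hx, m, rfl⟩ := TopCat.Presheaf.exists_germ_eq F.presheaf v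
  rw [RefHull.stalkMapₗ_germ]
  exact map_zero _

theorem stalkMapₗ_id (x : X) : stalkMapₗ (𝟙 F) x = LinearMap.id := by
  refine LinearMap.ext fun v => ?_
  obtain ⟨U, hx, m, rfl⟩ := TopCat.Presheaf.exists_germ_eq F.presheaf v
  rw [RefHull.stalkMapₗ_germ]
  rfl

theorem mono_of_stalk (φ : F ⟶ G) (h : ∀ x, Function.Injective (stalkMapₗ φ x)) : Mono φ :=
  ZClosLib.mono_of_app_injective φ fun V s t hst => ZClosLib.section_ext F _ _ fun x hx => h x (by
    rw [RefHull.stalkMapₗ_germ, RefHull.stalkMapₗ_germ, hst])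

theorem epi_of_stalk (φ : F ⟶ G) (h : ∀ x, Function.Surjective (stalkMapₗ φ x)) : Epi φ :=
  Preadditive.epi_of_cancel_zero _ fun u hu => ext_stalk fun x => LinearMap.ext fun v => by
    obtain ⟨w, rfl⟩ := h x v
    rw [← LinearMap.comp_apply, ← stalkMapₗ_comp, hu, stalkMapₗ_zero, stalkMapₗ_zero]
    rfl

/-- Postcomposition, on sections. -/
def postcFun (p : G ⟶ G') (U : X.Opens) : Γ(homSh F G, U) →+ Γ(homSh F G', U) where
  toFun g := ⟨fun x => (stalkMapₗ p x.1).comp (g.1 x), fun V i m x => by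
    obtain ⟨W, hW, j, n, w⟩ := RefHull.isLocSect_of_mem g V i m x
    refine ⟨W, hW, j, p.app W n, fun y => ?_⟩
    rw [LinearMap.comp_apply, w y]
    exact RefHull.stalkMapₗ_germ p y.1 y.2 n⟩
  map_zero' := RefX.sect_ext fun _ => LinearMap.comp_zero _
  map_add' _ _ := RefX.sect_ext fun _ => LinearMap.comp_add _ _ _

/-- Postcomposition. -/
def postc (F : X.Modules) (p : G ⟶ G') : homSh F G ⟶ homSh F G' :=
  ⟨PresheafOfModules.homMk
    { app := fun U => AddCommGrpCat.ofHom (postcFun p U.unop)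
      naturality := fun {U V} i => by
        ext s
        exact RefX.sect_ext fun x => rfl }
    (fun U r s => RefX.sect_ext fun x => LinearMap.comp_smul _ _ _)⟩

theorem postc_app_val (p : G ⟶ G') {U : X.Opens} (g : Γ(homSh F G, U)) (x : U) :
    ((postc F p).app U g).1 x = (stalkMapₗ p x.1).comp (g.1 x) := rfl

theorem evalStalk_postc (p : G ⟶ G') (x : X) (θ : (homSh F G).presheaf.stalk x) :
    evalStalk F G' x (stalkMapₗ (postc F p) x θ) = (stalkMapₗ p x).comp (evalStalk F G x θ) := by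
  obtain ⟨U, hx, g, rfl⟩ := TopCat.Presheaf.exists_germ_eq (homSh F G).presheaf θ
  rw [RefHull.stalkMapₗ_germ, RefHull.evalStalk_germ, RefHull.evalStalk_germ, postc_app_val]

theorem postc_comp {H : X.Modules} (p : G ⟶ G') (q : G' ⟶ H) :
    postc F p ≫ postc F q = postc F (p ≫ q) := by
  ext U g
  refine RefX.sect_ext fun x => ?_
  show ((postc F q).app U ((postc F p).app U g)).1 x = _
  rw [postc_app_val, postc_app_val, postc_app_val, stalkMapₗ_comp, LinearMap.comp_assoc]

theorem postc_zero : postc F (0 : G ⟶ G') = 0 := by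
  ext U g
  refine RefX.sect_ext fun x => ?_
  rw [postc_app_val, stalkMapₗ_zero, LinearMap.zero_comp]
  rfl

/-- The sheaf Hom out of a bundle is exact. -/
theorem shortExact_postc (hF : FlatMod.IsFinLocFree F) {S : ShortComplex X.Modules} (hS : S.ShortExact) :
    (ShortComplex.mk (postc F S.f) (postc F S.g)
      (by rw [postc_comp, S.zero, postc_zero])).ShortExact := by
  have hfp := QCoh.isFP_of_isFinLocFree hF
  have key : ∀ x, Function.Injective (stalkMapₗ S.f x) ∧ Function.Surjective (stalkMapₗ S.g x) ∧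
      ∀ v, stalkMapₗ S.g x v = 0 → ∃ w, stalkMapₗ S.f x w = v := fun x => by
    have h := hS.map_of_exact (DerSch.stalkFunctor X x)
    exact ⟨(ModuleCat.mono_iff_injective _).1 h.mono_f, (ModuleCat.epi_iff_surjective _).1 h.epi_g,
      (ShortComplex.moduleCat_exact_iff _).1 h.exact⟩
  refine ShortComplex.ShortExact.mk' ((KFlatLib.exact_iff_stalk _).2 fun x => ?_)
    (mono_of_stalk _ fun x a b hab => (RefX.evalStalk_bijective hfp x).1 (LinearMap.ext fun v => (key x).1 ?_))
    (epi_of_stalk _ fun x θ => ?_)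
  · rw [ShortComplex.moduleCat_exact_iff]
    intro (θ : (homSh F S.X₂).presheaf.stalk x) hθ
    replace hθ : stalkMapₗ (postc F S.g) x θ = 0 := hθ
    have h0 := congrArg (evalStalk F S.X₃ x) hθ
    rw [evalStalk_postc, map_zero] at h0
    let L := LinearEquiv.ofInjective (stalkMapₗ S.f x) (key x).1
    let w : RefHull.StalkHom F S.X₁ x := L.symm.toLinearMap.comp
      ((evalStalk F S.X₂ x θ).codRestrict _ fun v => (key x).2.2 _ (LinearMap.congr_fun h0 v))
    obtain ⟨θ', hθ'⟩ := (RefX.evalStalk_bijective hfp x).2 w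
    refine ⟨θ', show stalkMapₗ (postc F S.f) x θ' = θ from (RefX.evalStalk_bijective hfp x).1 ?_⟩
    rw [evalStalk_postc, hθ']
    refine LinearMap.ext fun v => ?_
    exact congrArg Subtype.val (L.apply_symm_apply ⟨_, (key x).2.2 _ (LinearMap.congr_fun h0 v)⟩)
  · have h := congrArg (evalStalk F S.X₂ x) hab
    rw [evalStalk_postc, evalStalk_postc] at h
    exact LinearMap.congr_fun h v
  · haveI := QCoh.free_stalk_of_isFinLocFree hF x
    obtain ⟨w, hw⟩ := Module.projective_lifting_property (stalkMapₗ S.g x) (evalStalk F S.X₃ x θ) (key x).2.1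
    obtain ⟨θ', rfl⟩ := (RefX.evalStalk_bijective hfp x).2 w
    exact ⟨θ', (RefX.evalStalk_bijective hfp x).1 (by rw [evalStalk_postc, hw])⟩

/-- A global section of the sheaf Hom as a morphism. -/
def toHom (g : Γ(homSh F G, ⊤)) : F ⟶ G :=
  ⟨PresheafOfModules.homMk
    { app := fun U => AddCommGrpCat.ofHom (AddMonoidHom.mk' (RefX.app le_top g) (RefX.app_add le_top g))
      naturality := fun {U V} i => by
        ext s
        exact (RefX.res_app le_top i.unop.le g s).symm }
    (fun U r s => RefX.app_smul le_top g r s)⟩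

theorem stalkMapₗ_toHom (g : Γ(homSh F G, ⊤)) (x : X) : stalkMapₗ (toHom g) x = g.1 ⟨x, trivial⟩ := by
  refine LinearMap.ext fun v => ?_
  obtain ⟨U, hx, m, rfl⟩ := TopCat.Presheaf.exists_germ_eq F.presheaf v
  rw [RefHull.stalkMapₗ_germ]
  exact RefX.germ_app le_top g m hx

/-- An extension of a bundle with no first cohomology of the sheaf Hom splits. -/
theorem isSplitEpi_of_subsingleton {S : ShortComplex X.Modules} (hS : S.ShortExact)
    (hQ : FlatMod.IsFinLocFree S.X₃) (h : Subsingleton (Coh.HH X (homSh S.X₃ S.X₁) 1)) :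
    IsSplitEpi S.g := by
  obtain ⟨g₀, hg₀⟩ := QCoh.app_top_surjective_of_HH_one (shortExact_postc hQ hS) h
    (RefHull.ofHom (𝟙 S.X₃) ⊤)
  refine IsSplitEpi.mk' ⟨toHom g₀, ext_stalk fun x => ?_⟩
  rw [stalkMapₗ_comp, stalkMapₗ_toHom]
  exact congrArg (fun g : Γ(homSh S.X₃ S.X₃, ⊤) => g.1 ⟨x, trivial⟩) hg₀

/-- The sheaf Hom of bundles on a locally noetherian scheme is a bundle. -/
theorem isFinLocFree_homSh [IsLocallyNoetherian X] (hQ : FlatMod.IsFinLocFree Q) (hF : FlatMod.IsFinLocFree F) :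
    FlatMod.IsFinLocFree (homSh Q F) := by
  have hQc := QCoh.isCoh_iff_isFP.2 (QCoh.isFP_of_isFinLocFree hQ)
  have hFc := QCoh.isCoh_iff_isFP.2 (QCoh.isFP_of_isFinLocFree hF)
  refine QCoh.isFinLocFree_iff.2 ⟨QCoh.isCoh_iff_isFP.1 (RefX.isCoh_homSh hQc hFc), fun x => ?_⟩
  haveI := QCoh.free_stalk_of_isFinLocFree hQ x
  haveI := QCoh.free_stalk_of_isFinLocFree hF x
  haveI := QCoh.finite_stalk_of_isFT hQc.1 hQc.2 x
  haveI := QCoh.finite_stalk_of_isFT hFc.1 hFc.2 x
  exact Module.Free.of_equiv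
    (LinearEquiv.ofBijective (evalStalk Q F x) (RefX.evalStalk_bijective (QCoh.isFP_of_isFinLocFree hQ) x)).symm

section Pairing

/-- Scalar part of a section of the structure module. -/
theorem unitStalk_germ {U : X.Opens} {x : X} (hx : x ∈ U) (a : Γ(Coh.structureModule X, U)) :
    RefX.unitStalk x (X.presheaf.germ U x hx (show Γ(X, U) from a)) = (Coh.structureModule X).presheaf.germ U x hx a := by
  let a' : Γ(X, U) := a
  show X.presheaf.germ U x hx a' • (Coh.structureModule X).presheaf.germ ⊤ x trivial _ = _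
  rw [← RefX.germ_res (Coh.structureModule X) (le_top : U ≤ ⊤) hx, ← QCoh.germ_smul']
  refine congrArg _ ?_
  show a' * X.presheaf.map (homOfLE le_top).op (1 : Γ(X, ⊤)) = a'
  rw [map_one, mul_one]

/-- The rank one map `v ↦ θ(v) m`. -/
def rankOne {U : X.Opens} (θ : Γ(RefHull.dual Q, U)) (m : Γ(F, U)) : Γ(homSh Q F, U) :=
  ⟨fun y => ((RefX.unitStalk y.1).symm.toLinearMap.comp (θ.1 y)).smulRight (F.presheaf.germ U y.1 y.2 m),
    fun V i q x => by
      let a : Γ(X, V) := RefX.app i.le θ q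
      refine ⟨V, x.2, 𝟙 V, a • AModX.res F i.le m, fun y => ?_⟩
      rw [LinearMap.smulRight_apply, LinearMap.comp_apply, QCoh.germ_smul', RefX.germ_res]
      congr 1
      refine (RefX.unitStalk y.1).injective ?_
      rw [LinearEquiv.coe_coe, LinearEquiv.apply_symm_apply, ← RefX.germ_app i.le θ q y.2]
      exact (unitStalk_germ y.2 (RefX.app i.le θ q)).symm⟩

/-- The stalkwise rank one map. -/
def rankOneStalk (hQ : CohB1.IsFP Q) (x : X) (θ : (RefHull.dual Q).presheaf.stalk x)
    (v : F.presheaf.stalk x) : (homSh Q F).presheaf.stalk x :=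
  (LinearEquiv.ofBijective (evalStalk Q F x) (RefX.evalStalk_bijective hQ x)).symm
    (((RefX.unitStalk x).symm.toLinearMap.comp (evalStalk Q (Coh.structureModule X) x θ)).smulRight v)

theorem evalStalk_rankOneStalk (hQ : CohB1.IsFP Q) (x : X) (θ : (RefHull.dual Q).presheaf.stalk x)
    (v : F.presheaf.stalk x) : evalStalk Q F x (rankOneStalk hQ x θ v) =
      ((RefX.unitStalk x).symm.toLinearMap.comp (evalStalk Q (Coh.structureModule X) x θ)).smulRight v :=
  (LinearEquiv.ofBijective (evalStalk Q F x) (RefX.evalStalk_bijective hQ x)).apply_symm_apply _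

/-- A form on `Hom(Q, F)` gives, at each element of `F`, a form on the dual of `Q`. -/
def pairAt (hQ : CohB1.IsFP Q) (φ : homSh Q F ⟶ Coh.structureModule X) (x : X) :
    F.presheaf.stalk x →ₗ[X.presheaf.stalk x] RefHull.StalkHom (RefHull.dual Q) (Coh.structureModule X) x where
  toFun v :=
    { toFun := fun θ => stalkMapₗ φ x (rankOneStalk hQ x θ v)
      map_add' := fun a b => by
        rw [← map_add]; refine congrArg _ ((RefX.evalStalk_bijective hQ x).1 ?_)
        rw [map_add, evalStalk_rankOneStalk, evalStalk_rankOneStalk, evalStalk_rankOneStalk, map_add]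
        ext w; simp [add_smul]
      map_smul' := fun c a => by
        rw [RingHom.id_apply, ← map_smul]; refine congrArg _ ((RefX.evalStalk_bijective hQ x).1 ?_)
        rw [map_smul, evalStalk_rankOneStalk, evalStalk_rankOneStalk, map_smul]
        ext w; simp [mul_smul] }
  map_add' v w := LinearMap.ext fun θ => by
    show stalkMapₗ φ x _ = stalkMapₗ φ x _ + stalkMapₗ φ x _
    rw [← map_add]; refine congrArg _ ((RefX.evalStalk_bijective hQ x).1 ?_)
    rw [map_add, evalStalk_rankOneStalk, evalStalk_rankOneStalk, evalStalk_rankOneStalk]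
    ext z; simp [smul_add]
  map_smul' c v := LinearMap.ext fun θ => by
    show stalkMapₗ φ x _ = c • stalkMapₗ φ x _
    rw [← map_smul]; refine congrArg _ ((RefX.evalStalk_bijective hQ x).1 ?_)
    rw [map_smul, evalStalk_rankOneStalk, evalStalk_rankOneStalk]
    ext z; simp [smul_comm c]

/-- The map `F ⟶ Q^{∨∨}` of a form on `Hom(Q, F)`, on sections. -/
def pairFun (hQ : CohB1.IsFP Q) (φ : homSh Q F ⟶ Coh.structureModule X) (U : X.Opens) :
    Γ(F, U) →+ Γ(RefHull.ddual Q, U) where
  toFun m := ⟨fun y => pairAt hQ φ y.1 (F.presheaf.germ U y.1 y.2 m), fun V i θ x => by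
    refine ⟨V, x.2, 𝟙 V, φ.app V (rankOne θ (AModX.res F i.le m)), fun y => ?_⟩
    show stalkMapₗ φ y.1 _ = _
    rw [← RefHull.stalkMapₗ_germ φ y.1 y.2]
    refine congrArg _ ((RefX.evalStalk_bijective hQ y.1).1 ?_)
    rw [evalStalk_rankOneStalk, RefHull.evalStalk_germ, RefHull.evalStalk_germ]
    show _ = ((RefX.unitStalk y.1).symm.toLinearMap.comp (θ.1 y)).smulRight _
    rw [RefX.germ_res]⟩
  map_zero' := RefX.sect_ext fun y => by
    show pairAt hQ φ y.1 (F.presheaf.germ U y.1 y.2 0) = 0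
    simp only [map_zero]
  map_add' m m' := RefX.sect_ext fun y => by
    show pairAt hQ φ y.1 (F.presheaf.germ U y.1 y.2 (m + m')) =
      pairAt hQ φ y.1 (F.presheaf.germ U y.1 y.2 m) + pairAt hQ φ y.1 (F.presheaf.germ U y.1 y.2 m')
    simp only [map_add]

/-- The map `F ⟶ Q^{∨∨}` of a form on `Hom(Q, F)`. -/
def toDdual (hQ : CohB1.IsFP Q) (φ : homSh Q F ⟶ Coh.structureModule X) : F ⟶ RefHull.ddual Q :=
  ⟨PresheafOfModules.homMk
    { app := fun U => AddCommGrpCat.ofHom (pairFun hQ φ U.unop)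
      naturality := fun {U V} i => by
        ext s
        refine RefX.sect_ext fun x => ?_
        exact congrArg (pairAt hQ φ x.1) (TopCat.Presheaf.germ_res_apply' F.presheaf i x.1 x.2 s) }
    (fun U r s => RefX.sect_ext fun x =>
      (congrArg (pairAt hQ φ x.1) (Mero.germ_smul F U.unop x.1 x.2 r s)).trans
        (map_smul (pairAt hQ φ x.1) _ _))⟩

theorem eq_zero_of_toDdual (hQ : FlatMod.IsFinLocFree Q) (φ : homSh Q F ⟶ Coh.structureModule X)
    (h : toDdual (QCoh.isFP_of_isFinLocFree hQ) φ = 0) : φ = 0 := by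
  classical
  have hfp := QCoh.isFP_of_isFinLocFree hQ
  refine ext_stalk fun x => LinearMap.ext fun η => ?_
  rw [stalkMapₗ_zero, LinearMap.zero_apply]
  have hz : ∀ θ v, stalkMapₗ φ x (rankOneStalk hfp x θ v) = 0 := fun θ v => by
    obtain ⟨U, hx, m, rfl⟩ := TopCat.Presheaf.exists_germ_eq F.presheaf v
    have h1 : ((toDdual hfp φ).app U m).1 ⟨x, hx⟩ = 0 := by rw [h]; rfl
    exact LinearMap.congr_fun h1 θ
  haveI := QCoh.free_stalk_of_isFinLocFree hQ x
  haveI := QCoh.finite_stalk_of_isFT (QCoh.isQCoh_of_isFinLocFree hQ) (QCoh.isFT_of_isFP hfp) x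
  let b := Module.Free.chooseBasis (X.presheaf.stalk x) (Q.presheaf.stalk x)
  have hη : η = ∑ i, rankOneStalk hfp x ((RefX.dualStalk hfp x).symm (b.coord i)) (evalStalk Q F x η (b i)) := by
    refine (RefX.evalStalk_bijective hfp x).1 (b.ext fun j => ?_)
    rw [map_sum, LinearMap.sum_apply]
    simp only [evalStalk_rankOneStalk, LinearMap.smulRight_apply, LinearMap.comp_apply]
    have hc : ∀ i, (RefX.unitStalk x).symm (evalStalk Q (Coh.structureModule X) x
        ((RefX.dualStalk hfp x).symm (b.coord i)) (b j)) = b.coord i (b j) := fun i =>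
      LinearMap.congr_fun ((RefX.dualStalk hfp x).apply_symm_apply (b.coord i)) (b j)
    simp [hc, Finsupp.single_apply]
  rw [hη, map_sum]
  exact Finset.sum_eq_zero fun i _ => hz _ _

/-- A nonzero form on `Hom(Q, F)` gives a nonzero map `F ⟶ Q`. -/
theorem exists_hom_ne_zero [IsLocallyNoetherian X] (hQ : FlatMod.IsFinLocFree Q)
    (φ : homSh Q F ⟶ Coh.structureModule X) (hφ : φ ≠ 0) : ∃ ψ : F ⟶ Q, ψ ≠ 0 := by
  have hfp := QCoh.isFP_of_isFinLocFree hQ
  have hQc := QCoh.isCoh_iff_isFP.2 hfp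
  haveI : IsIso (RefHull.bidualMap Q) := (RefX.isReflexive_iff hQc).2 fun x => by
    haveI := QCoh.free_stalk_of_isFinLocFree hQ x
    haveI := QCoh.finite_stalk_of_isFT hQc.1 hQc.2 x
    exact (inferInstance : Module.IsReflexive (X.presheaf.stalk x) (Q.presheaf.stalk x))
  refine ⟨toDdual hfp φ ≫ inv (RefHull.bidualMap Q), fun h => hφ (eq_zero_of_toDdual hQ φ ?_)⟩
  rw [← cancel_mono (inv (RefHull.bidualMap Q)), h, zero_comp]

end Pairing

end Groth.Agent.HomShX
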